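import Cfsg.Agent.Lib.SporOutFiTwentyThree.CertData

/-! All automorphisms of Fi23 are inner. -/

set_option autoImplicit false
set_option maxRecDepth 100000

namespace Cfsg.Agent.Lib.SporOutFiTwentyThree

open Cfsg.Agent.Lib.Coset Cfsg.Agent.Lib.SporPres.FiTwentyThree

theorem cands0 : cert.candsOK 0 2 = true := by decide +kernel

theorem cands1 : cert.candsOK 2 2 = true := by decide +kernel

theorem cands2 : cert.candsOK 4 2 = true := by decide +kernel

theorem cands3 : cert.candsOK 6 2 = true := by decide +kernel

theorem cands4 : cert.candsOK 8 2 = true := by decide +kernel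

theorem cands5 : cert.candsOK 10 2 = true := by decide +kernel

theorem cands6 : cert.candsOK 12 2 = true := by decide +kernel

theorem cands7 : cert.candsOK 14 2 = true := by decide +kernel

theorem cands : ∀ i < 16, ∀ w ∈ cert.yC.goods, cert.candOK i w = true := by
  intro i hi w hw
  have hh : cert.candsOK (i / 2 * 2) 2 = true := by
    have hk : i / 2 < 8 := by omega
    generalize i / 2 = k at hk ⊢
    interval_cases k
    · exact cands0
    · exact cands1
    · exact cands2
    · exact cands3
    · exact cands4
    · exact cands5
    · exact cands6
    · exact cands7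
  simp only [Cert.candsOK, List.all_eq_true, List.mem_range] at hh
  have := hh (i % 2) (Nat.mod_lt _ (by norm_num)) w hw
  rwa [Nat.div_add_mod'] at this


end Cfsg.Agent.Lib.SporOutFiTwentyThree
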