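import Cfsg.Agent.Lib.SporOutFiTwentyThree.DataX

/-! The orbits cover the points. -/

set_option autoImplicit false
set_option maxRecDepth 100000

namespace Cfsg.Agent.Lib.SporOutFiTwentyThree

open Cfsg.Agent.Lib.Coset Cfsg.Agent.Lib.SporPres.FiTwentyThree

theorem coverX0 : xCen.coverOK (0 * 3000) (min 3000 (tab.size - 0 * 3000)) = true := by decide +kernel

theorem coverX1 : xCen.coverOK (1 * 3000) (min 3000 (tab.size - 1 * 3000)) = true := by decide +kernel

theorem coverX2 : xCen.coverOK (2 * 3000) (min 3000 (tab.size - 2 * 3000)) = true := by decide +kernel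

theorem coverX3 : xCen.coverOK (3 * 3000) (min 3000 (tab.size - 3 * 3000)) = true := by decide +kernel

theorem coverX4 : xCen.coverOK (4 * 3000) (min 3000 (tab.size - 4 * 3000)) = true := by decide +kernel

theorem coverX5 : xCen.coverOK (5 * 3000) (min 3000 (tab.size - 5 * 3000)) = true := by decide +kernel

theorem coverX6 : xCen.coverOK (6 * 3000) (min 3000 (tab.size - 6 * 3000)) = true := by decide +kernel

theorem coverX7 : xCen.coverOK (7 * 3000) (min 3000 (tab.size - 7 * 3000)) = true := by decide +kernel

theorem coverX8 : xCen.coverOK (8 * 3000) (min 3000 (tab.size - 8 * 3000)) = true := by decide +kernel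

theorem coverX9 : xCen.coverOK (9 * 3000) (min 3000 (tab.size - 9 * 3000)) = true := by decide +kernel

theorem coverX10 : xCen.coverOK (10 * 3000) (min 3000 (tab.size - 10 * 3000)) = true := by decide +kernel

theorem coverX : ∀ k < tab.size, xCen.coverOK k 1 = true :=
  all_cover (B := 3000) (by norm_num) fun k hk => by
    have hk' : k < 11 := by have := size_eq; omega
    interval_cases k
    · exact coverX0
    · exact coverX1
    · exact coverX2
    · exact coverX3
    · exact coverX4
    · exact coverX5
    · exact coverX6
    · exact coverX7
    · exact coverX8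
    · exact coverX9
    · exact coverX10

end Cfsg.Agent.Lib.SporOutFiTwentyThree
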