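import Cfsg.Agent.Lib.SporOutFiTwentyThree.DataY

/-! The orbits cover the points. -/

set_option autoImplicit false
set_option maxRecDepth 100000

namespace Cfsg.Agent.Lib.SporOutFiTwentyThree

open Cfsg.Agent.Lib.Coset Cfsg.Agent.Lib.SporPres.FiTwentyThree

theorem coverY11 : yCen.coverOK (11 * 1500) (min 1500 (tab.size - 11 * 1500)) = true := by decide +kernel

theorem coverY12 : yCen.coverOK (12 * 1500) (min 1500 (tab.size - 12 * 1500)) = true := by decide +kernel

theorem coverY13 : yCen.coverOK (13 * 1500) (min 1500 (tab.size - 13 * 1500)) = true := by decide +kernel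

theorem coverY14 : yCen.coverOK (14 * 1500) (min 1500 (tab.size - 14 * 1500)) = true := by decide +kernel

theorem coverY15 : yCen.coverOK (15 * 1500) (min 1500 (tab.size - 15 * 1500)) = true := by decide +kernel

theorem coverY16 : yCen.coverOK (16 * 1500) (min 1500 (tab.size - 16 * 1500)) = true := by decide +kernel

theorem coverY17 : yCen.coverOK (17 * 1500) (min 1500 (tab.size - 17 * 1500)) = true := by decide +kernel

theorem coverY18 : yCen.coverOK (18 * 1500) (min 1500 (tab.size - 18 * 1500)) = true := by decide +kernel

theorem coverY19 : yCen.coverOK (19 * 1500) (min 1500 (tab.size - 19 * 1500)) = true := by decide +kernel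

theorem coverY20 : yCen.coverOK (20 * 1500) (min 1500 (tab.size - 20 * 1500)) = true := by decide +kernel

theorem coverY21 : yCen.coverOK (21 * 1500) (min 1500 (tab.size - 21 * 1500)) = true := by decide +kernel

end Cfsg.Agent.Lib.SporOutFiTwentyThree
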