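import Cfsg.Agent.Lib.SporOutFiTwentyThree.CoverYLow
import Cfsg.Agent.Lib.SporOutFiTwentyThree.CoverYHigh

/-! The orbits cover the points. -/

set_option autoImplicit false
set_option maxRecDepth 100000

namespace Cfsg.Agent.Lib.SporOutFiTwentyThree

open Cfsg.Agent.Lib.Coset Cfsg.Agent.Lib.SporPres.FiTwentyThree

theorem coverY : ∀ k < tab.size, yCen.coverOK k 1 = true :=
  all_cover (B := 1500) (by norm_num) fun k hk => by
    have hk' : k < 22 := by have := size_eq; omega
    interval_cases k
    · exact coverY0
    · exact coverY1
    · exact coverY2
    · exact coverY3
    · exact coverY4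
    · exact coverY5
    · exact coverY6
    · exact coverY7
    · exact coverY8
    · exact coverY9
    · exact coverY10
    · exact coverY11
    · exact coverY12
    · exact coverY13
    · exact coverY14
    · exact coverY15
    · exact coverY16
    · exact coverY17
    · exact coverY18
    · exact coverY19
    · exact coverY20
    · exact coverY21

end Cfsg.Agent.Lib.SporOutFiTwentyThree
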