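import Cfsg.Agent.Lib.SporOutFiTwentyThree.DataY

/-! The orbits cover the points. -/

set_option autoImplicit false
set_option maxRecDepth 100000

namespace Cfsg.Agent.Lib.SporOutFiTwentyThree

open Cfsg.Agent.Lib.Coset Cfsg.Agent.Lib.SporPres.FiTwentyThree

theorem coverY0 : yCen.coverOK (0 * 1500) (min 1500 (tab.size - 0 * 1500)) = true := by decide +kernel

theorem coverY1 : yCen.coverOK (1 * 1500) (min 1500 (tab.size - 1 * 1500)) = true := by decide +kernel

theorem coverY2 : yCen.coverOK (2 * 1500) (min 1500 (tab.size - 2 * 1500)) = true := by decide +kernel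

theorem coverY3 : yCen.coverOK (3 * 1500) (min 1500 (tab.size - 3 * 1500)) = true := by decide +kernel

theorem coverY4 : yCen.coverOK (4 * 1500) (min 1500 (tab.size - 4 * 1500)) = true := by decide +kernel

theorem coverY5 : yCen.coverOK (5 * 1500) (min 1500 (tab.size - 5 * 1500)) = true := by decide +kernel

theorem coverY6 : yCen.coverOK (6 * 1500) (min 1500 (tab.size - 6 * 1500)) = true := by decide +kernel

theorem coverY7 : yCen.coverOK (7 * 1500) (min 1500 (tab.size - 7 * 1500)) = true := by decide +kernel

theorem coverY8 : yCen.coverOK (8 * 1500) (min 1500 (tab.size - 8 * 1500)) = true := by decide +kernel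

theorem coverY9 : yCen.coverOK (9 * 1500) (min 1500 (tab.size - 9 * 1500)) = true := by decide +kernel

theorem coverY10 : yCen.coverOK (10 * 1500) (min 1500 (tab.size - 10 * 1500)) = true := by decide +kernel

end Cfsg.Agent.Lib.SporOutFiTwentyThree
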