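import Cfsg.Agent.Lib.SporOutFiTwentyThree.Engine
import Cfsg.Agent.Lib.SchurMult.MathieuCommon
import Cfsg.Prelude.Def_KGroupFacts

/-!
All automorphisms of Fi23 are inner: the criterion.
-/

set_option autoImplicit false
set_option maxRecDepth 100000

namespace Cfsg.Agent.Lib.SporOutFiTwentyThree

open Cfsg Cfsg.Agent.Lib.Coset Cfsg.Agent.Lib.SporPres.FiTwentyThree
open Cfsg.Agent.Lib.AutCert (subst lettersOK same)
open Cfsg.Agent.Lib.AutCert.Model (rep_lt subst_lt)

local notation "G" => Cfsg.Spor.Fi23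

/-- The data of the certificate. -/
structure Cert where
  /-- The centraliser of the element of order 17. -/
  xC : Cen
  /-- The centraliser of the element of order 16. -/
  yC : Cen
  /-- A word conjugating that element into the normaliser. -/
  g0 : List ℕ
  /-- The conjugate of the third generator. -/
  s0 : List ℕ
  /-- A transposition, given by its path, as a word in the three elements. -/
  tWord : List ℕ
  /-- The path of that transposition. -/
  ud : List ℕ
  /-- The generators as words in the element of order 17 and that transposition. -/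
  gwd : List (List ℕ)
  /-- Relations of the three elements, with a point moved otherwise. -/
  killers : List (ℕ × List ℕ × ℕ)

namespace Cert

variable (C : Cert)

/-- A word conjugated by `g0`. -/
def up (w : List ℕ) : List ℕ := C.g0 ++ (w ++ C.g0.reverse)

/-- The element of order 17. -/
def xWord : List ℕ := C.xC.y

/-- The element normalising it. -/
def hWord : List ℕ := C.up C.yC.y

/-- The third generator. -/
def sWord : List ℕ := C.up C.s0

/-- The equations. -/
noncomputable def eqsOK : Bool :=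
  lettersOK tab [C.g0] && lettersOK tab [C.s0] &&
    same tab bases (C.hWord ++ C.xWord) (Coset.rep 3 C.xWord ++ C.hWord) &&
    same tab bases (Coset.rep 17 C.xWord) [] && !Nat.beq (tab.app C.xWord 0) 0 &&
    same tab bases (Coset.rep 16 C.yC.y) [] &&
    same tab bases (C.yC.y ++ C.s0) (C.s0 ++ C.yC.y) &&
    (lettersOK tab [C.ud] &&
      same tab bases (tword C.ud) (subst [C.xWord, C.hWord, C.sWord] C.tWord) &&
      (List.range 10).all fun k => same tab bases [k] (subst [C.xWord, tword C.ud] (C.gwd.getD k []))) &&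
    (C.killers.all fun r => decide (r.2.2 < tab.size) &&
      same tab bases (Coset.rep r.1 (subst [C.xWord, C.hWord, C.sWord] r.2.1)) []) &&
    C.xC.goods.all fun w => same tab bases w []

/-- A candidate image of the third generator is the generator or breaks a relation. -/
noncomputable def candOK (i : ℕ) (w : List ℕ) : Bool :=
  let u := C.up (Coset.rep i C.yC.y ++ w)
  (C.killers.any fun r =>
      !Nat.beq (tab.app (Coset.rep r.1 (subst [C.xWord, C.hWord, u] r.2.1)) r.2.2) r.2.2) ||
    same tab bases u C.sWord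

/-- All candidates are excluded for an exponent range. -/
noncomputable def candsOK (lo len : ℕ) : Bool :=
  (List.range len).all fun i => C.yC.goods.all fun w => C.candOK (lo + i) w

end Cert

/-- All checks of the certificate. -/
structure Checks (C : Cert) : Prop where
  xC : CenOK C.xC
  yC : CenOK C.yC
  eqs : C.eqsOK = true
  cands : ∀ i < 16, ∀ w ∈ C.yC.goods, C.candOK i w = true

variable {C : Cert}

local notation "X" => elt (Cert.xWord C)
local notation "H" => elt (Cert.hWord C)
local notation "S" => elt (Cert.sWord C)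

theorem elt_reverse (w : List ℕ) : elt w.reverse = (elt w)⁻¹ := rev_eq w

theorem elt_up (w : List ℕ) : elt (C.up w) = elt C.g0 * elt w * (elt C.g0)⁻¹ := by
  simp only [Cert.up, elt_append, elt_reverse, mul_assoc]

theorem up_lt (hg : ∀ a ∈ C.g0, a < tab.gens) {w : List ℕ} (hw : ∀ a ∈ w, a < tab.gens) :
    ∀ a ∈ C.up w, a < tab.gens :=
  List.forall_mem_append.2 ⟨hg, List.forall_mem_append.2 ⟨hw, fun a ha => hg a (List.mem_reverse.1 ha)⟩⟩

theorem Checks.letters (h : Checks C) : (∀ a ∈ C.g0, a < tab.gens) ∧ (∀ a ∈ C.s0, a < tab.gens) ∧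
    (∀ a ∈ C.xWord, a < tab.gens) ∧ (∀ a ∈ C.hWord, a < tab.gens) ∧ (∀ a ∈ C.sWord, a < tab.gens) := by
  have h' := h.eqs
  simp only [Cert.eqsOK, Bool.and_eq_true] at h'
  have hg : ∀ a ∈ C.g0, a < tab.gens := by simpa [lettersOK] using h'.1.1.1.1.1.1.1.1.1
  have hs : ∀ a ∈ C.s0, a < tab.gens := by simpa [lettersOK] using h'.1.1.1.1.1.1.1.1.2
  exact ⟨hg, hs, h.xC.letters.1, up_lt hg h.yC.letters.1, up_lt hg hs⟩

theorem Checks.xhs_ok (h : Checks C) {u : List ℕ} (hu : ∀ a ∈ u, a < tab.gens) :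
    lettersOK tab [C.xWord, C.hWord, u] = true := by
  obtain ⟨-, -, hx, hh, -⟩ := h.letters
  simp only [lettersOK, List.all_cons, List.all_nil, Bool.and_eq_true, List.all_eq_true, decide_eq_true_eq]
  exact ⟨hx, hh, hu, trivial⟩

theorem Checks.hx_eq (h : Checks C) : H * X = X ^ 3 * H := by
  obtain ⟨-, -, hx, hh, -⟩ := h.letters
  have h' := h.eqs
  simp only [Cert.eqsOK, Bool.and_eq_true] at h'
  have := same_spec (List.forall_mem_append.2 ⟨hh, hx⟩)
    (List.forall_mem_append.2 ⟨rep_lt hx _, hh⟩) h'.1.1.1.1.1.1.1.2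
  rwa [elt_append, elt_append, elt_rep] at this

theorem Checks.X_pow (h : Checks C) : X ^ 17 = 1 ∧ X ≠ 1 := by
  obtain ⟨-, -, hx, -, -⟩ := h.letters
  have h' := h.eqs
  simp only [Cert.eqsOK, Bool.and_eq_true, Bool.not_eq_true'] at h'
  refine ⟨?_, fun e => ?_⟩
  · have := same_spec (rep_lt hx _) (w := []) (by simp) h'.1.1.1.1.1.1.2
    rwa [elt_rep, elt_nil] at this
  · have h2 := h'.1.1.1.1.1.2
    rw [app_eq hx pos, e, map_one, Equiv.Perm.one_apply] at h2
    simp at h2

theorem Checks.orderOf_X (h : Checks C) : orderOf X = 17 := by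
  have : Fact (Nat.Prime 17) := ⟨by norm_num⟩
  exact orderOf_eq_prime h.X_pow.1 h.X_pow.2

theorem Checks.pow_mod (h : Checks C) (a : ℕ) : X ^ a = X ^ (a % 17) := by
  rw [← h.orderOf_X, pow_mod_orderOf]

theorem Checks.cent_X (h : Checks C) {g : G} (hg : g * X = X * g) : ∃ i : ℕ, g = X ^ i := by
  obtain ⟨i, -, w, hw, hwl, e⟩ := h.xC.cent hg
  have h' := h.eqs
  simp only [Cert.eqsOK, Bool.and_eq_true] at h'
  have := same_spec hwl (w := []) (by simp) (List.all_eq_true.1 h'.2 w hw)
  exact ⟨i, by rw [e, this, elt_nil, mul_one]; rfl⟩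

/-- The three words evaluated at three elements. -/
noncomputable def ev3 (a b c : G) (w : List ℕ) : G := ev (fun i => [a, b, c].getD i 1) w

theorem elt_subst3 (u v w r : List ℕ) : elt (subst [u, v, w] r) = ev3 (elt u) (elt v) (elt w) r := by
  rw [elt_subst, ev3]
  congr 1
  funext i
  match i with
  | 0 => rfl
  | 1 => rfl
  | 2 => rfl
  | n + 3 => rfl

theorem map_ev3 (f : G →* G) (a b c : G) (w : List ℕ) : f (ev3 a b c w) = ev3 (f a) (f b) (f c) w := by
  rw [ev3, ev_comp, ev3]
  congr 1
  funext i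
  match i with
  | 0 => rfl
  | 1 => rfl
  | 2 => rfl
  | n + 3 => exact map_one f

theorem Checks.aut_eq_one (h : Checks C) {β : MulAut G} (hx : β X = X) (hh : β H = H) (hs : β S = S) :
    β = 1 := by
  obtain ⟨-, -, -, -, hsl⟩ := h.letters
  have h' := h.eqs
  simp only [Cert.eqsOK, Bool.and_eq_true] at h'
  obtain ⟨⟨hud0, ht0⟩, hgw⟩ := h'.1.1.2
  have hud : ∀ a ∈ C.ud, a < tab.gens := by simpa [lettersOK] using hud0
  have ht := same_spec (tword_lt hud) (subst_lt (h.xhs_ok hsl) _) ht0
  rw [elt_subst3] at ht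
  have hT : β (elt (tword C.ud)) = elt (tword C.ud) := by
    rw [ht]
    show β.toMonoidHom _ = _
    rw [map_ev3]
    show ev3 (β X) (β H) (β S) _ = _
    rw [hx, hh, hs]
  have hl : lettersOK tab [C.xWord, tword C.ud] = true := by
    simp only [lettersOK, List.all_cons, List.all_nil, Bool.and_eq_true, List.all_eq_true, decide_eq_true_eq]
    exact ⟨h.letters.2.2.1, tword_lt hud, trivial⟩
  have hfix : ∀ i, β.toMonoidHom (elt ([C.xWord, tword C.ud].getD i [])) = elt ([C.xWord, tword C.ud].getD i []) :=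
    fun i => match i with
    | 0 => hx
    | 1 => hT
    | n + 2 => map_one _
  have htop : MonoidHom.eqLocus β.toMonoidHom (MonoidHom.id _) = ⊤ := by
    rw [eq_top_iff, ← gen]
    refine (Subgroup.closure_le _).2 ?_
    rintro _ ⟨k, hk, rfl⟩
    show β.toMonoidHom (φ k) = φ k
    have hk10 : k < 10 := hk
    have e := same_spec (v := [k]) (by intro a ha; rw [List.mem_singleton.1 ha]; exact hk10)
      (subst_lt hl _) (List.all_eq_true.1 hgw k (List.mem_range.2 hk10))
    rw [elt_subst] at e
    rw [← show elt [k] = φ k by simp [elt, ev_cons, ev_nil], e, ev_comp]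
    exact congrArg List.prod (List.map_congr_left fun i _ => hfix i)
  exact MulEquiv.ext fun g => (htop ▸ Subgroup.mem_top g : g ∈ MonoidHom.eqLocus β.toMonoidHom (MonoidHom.id _))

theorem Checks.fix_both (h : Checks C) {β : MulAut G} (hx : β X = X) (hh : β H = H) : β = 1 := by
  obtain ⟨hgl, hs0, -, -, hsl⟩ := h.letters
  have h' := h.eqs
  simp only [Cert.eqsOK, Bool.and_eq_true] at h'
  have hy := h.yC.letters.1
  have hys := same_spec (List.forall_mem_append.2 ⟨hy, hs0⟩) (List.forall_mem_append.2 ⟨hs0, hy⟩) h'.1.1.1.2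
  rw [elt_append, elt_append] at hys
  have hSH : S * H = H * S := by
    rw [Cert.sWord, Cert.hWord, elt_up, elt_up]
    calc _ = elt C.g0 * (elt C.s0 * elt C.yC.y) * (elt C.g0)⁻¹ := by group
      _ = _ := by rw [← hys]; group
  have hb : (elt C.g0)⁻¹ * β S * elt C.g0 * elt C.yC.y = elt C.yC.y * ((elt C.g0)⁻¹ * β S * elt C.g0) := by
    have e := congrArg β hSH
    rw [map_mul, map_mul, hh, Cert.hWord, elt_up] at e
    calc _ = (elt C.g0)⁻¹ * (β S * (elt C.g0 * elt C.yC.y * (elt C.g0)⁻¹)) * elt C.g0 := by group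
      _ = _ := by rw [e]; group
  obtain ⟨i, -, w, hw, hwl, e⟩ := h.yC.cent hb
  have h16 : elt C.yC.y ^ 16 = 1 := by
    have := same_spec (rep_lt hy _) (w := []) (by simp) h'.1.1.1.1.2
    rwa [elt_rep, elt_nil] at this
  have hi : elt C.yC.y ^ i = elt C.yC.y ^ (i % 16) := by
    conv_lhs => rw [← Nat.mod_add_div i 16, pow_add, pow_mul, h16, one_pow, mul_one]
  set u := C.up (Coset.rep (i % 16) C.yC.y ++ w) with hu
  have hul : ∀ a ∈ u, a < tab.gens := up_lt hgl (List.forall_mem_append.2 ⟨rep_lt hy _, hwl⟩)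
  have hbu : β S = elt u := by
    rw [hu, elt_up, elt_append, elt_rep, ← hi, ← e]
    group
  have hc := h.cands (i % 16) (Nat.mod_lt _ (by norm_num)) w hw
  simp only [Cert.candOK, Bool.or_eq_true, List.any_eq_true, Bool.not_eq_true', ← hu] at hc
  rcases hc with ⟨r, hr, hne⟩ | hc
  · exfalso
    have hk := List.all_eq_true.1 h'.1.2 r hr
    simp only [Bool.and_eq_true, decide_eq_true_eq] at hk
    have e1 := same_spec (rep_lt (subst_lt (h.xhs_ok hsl) r.2.1) r.1) (w := []) (by simp) hk.2
    rw [elt_rep, elt_nil, elt_subst3] at e1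
    have e2 : elt (Coset.rep r.1 (subst [C.xWord, C.hWord, u] r.2.1)) = 1 := by
      rw [elt_rep, elt_subst3, ← hbu]
      have := congrArg β.toMonoidHom e1
      rw [map_pow, map_ev3, map_one] at this
      simpa [hx, hh] using this
    rw [app_eq (rep_lt (subst_lt (h.xhs_ok hul) r.2.1) r.1) hk.1, e2, map_one, Equiv.Perm.one_apply] at hne
    simp at hne
  · exact h.aut_eq_one hx hh (hbu.trans (same_spec hul hsl hc))

theorem Checks.conj_pow_X (h : Checks C) : ∀ i : ℕ, MulAut.conj (H ^ i) X = X ^ (3 ^ i)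
  | 0 => by simp
  | i + 1 => by
    have h1 : MulAut.conj H X = X ^ 3 := by rw [MulAut.conj_apply, h.hx_eq, mul_inv_cancel_right]
    rw [pow_succ, map_mul, MulAut.mul_apply, h1, map_pow, conj_pow_X h i, ← pow_mul, ← pow_succ]

theorem Checks.fix_X (h : Checks C) {β : MulAut G} (hx : β X = X) : β ∈ Cfsg.Inn G := by
  have hz : H⁻¹ * β H * X = X * (H⁻¹ * β H) := by
    have e := congrArg β h.hx_eq
    rw [map_mul, map_mul, map_pow, hx] at e
    rw [mul_assoc, e, ← mul_assoc, ← mul_assoc]
    congr 1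
    rw [inv_mul_eq_iff_eq_mul, ← mul_assoc, h.hx_eq, mul_inv_cancel_right]
  obtain ⟨i, hi⟩ := h.cent_X hz
  rw [inv_mul_eq_iff_eq_mul] at hi
  have e : MulAut.conj (X ^ (10 * i)) * β = 1 := by
    refine h.fix_both ?_ ?_
    · rw [MulAut.mul_apply, hx, MulAut.conj_apply, ← pow_succ, pow_succ', mul_inv_cancel_right]
    · have hH : ∀ a : ℕ, H * X ^ a = X ^ (3 * a) * H := fun a => by
        have hs : SemiconjBy H X (X ^ 3) := h.hx_eq
        rw [pow_mul]
        exact (hs.pow_right a).eq
      have hexp : X ^ (10 * i + 3 * i) = X ^ (3 * (10 * i)) := by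
        rw [h.pow_mod, h.pow_mod (3 * (10 * i))]
        congr 1
        omega
      rw [MulAut.mul_apply, hi, MulAut.conj_apply, hH i, ← mul_assoc, ← pow_add, hexp, ← hH,
        mul_inv_cancel_right]
  rw [eq_inv_of_mul_eq_one_right e, ← map_inv]
  exact ⟨_, rfl⟩

theorem residues : ((List.range 17).all fun r => Nat.beq r 0 ||
    (List.range 16).any fun i => Nat.beq r (3 ^ i % 17)) = true := by decide +kernel

theorem Checks.out_one (h : Checks C) : Nat.card (Cfsg.Out G) = 1 := by
  have : Fact (Nat.Prime 17) := ⟨by norm_num⟩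
  have : Finite G := group_le.1
  have hfac : (Nat.card G).factorization 17 = 1 :=
    SchurMult.Mathieu.factorization_of (r := 240557086664294400) (by norm_num)
      (by rw [card_and_inj.1]; norm_num) (by decide)
  rw [Nat.card_eq_one_iff_unique]
  refine ⟨⟨fun a b => ?_⟩, ⟨1⟩⟩
  suffices hall : ∀ c : Cfsg.Out G, c = 1 by rw [hall a, hall b]
  intro c
  obtain ⟨α, rfl⟩ := QuotientGroup.mk_surjective c
  refine (QuotientGroup.eq_one_iff α).2 ?_
  have hP : Nat.card (Subgroup.zpowers X) = 17 ^ (Nat.card G).factorization 17 := by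
    rw [Nat.card_zpowers, h.orderOf_X, hfac, pow_one]
  have hQ : Nat.card (Subgroup.zpowers (α X)) = 17 ^ (Nat.card G).factorization 17 := by
    rw [← hP, Nat.card_zpowers, Nat.card_zpowers, MulEquiv.orderOf_eq]
  obtain ⟨g, hg⟩ := MulAction.exists_smul_eq G (Sylow.ofCard _ hQ) (Sylow.ofCard _ hP)
  have hmem : MulAut.conj g (α X) ∈ Subgroup.zpowers X := by
    have h1 : g * α X * g⁻¹ ∈ (g • Sylow.ofCard _ hQ : Sylow 17 G).toSubgroup := by
      rw [Sylow.coe_subgroup_smul]
      exact ⟨α X, Subgroup.mem_zpowers _, rfl⟩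
    rw [hg] at h1
    exact h1
  obtain ⟨r, hr⟩ : ∃ r : ℕ, X ^ r = MulAut.conj g (α X) := (Submonoid.mem_powers_iff _ _).1
    (mem_powers_iff_mem_zpowers.2 hmem)
  rw [h.pow_mod] at hr
  have hr0 : r % 17 ≠ 0 := fun e => by
    rw [e, pow_zero, eq_comm, EmbeddingLike.map_eq_one_iff, EmbeddingLike.map_eq_one_iff] at hr
    exact h.X_pow.2 hr
  have hres := List.all_eq_true.1 residues (r % 17) (List.mem_range.2 (Nat.mod_lt _ (by norm_num)))
  simp only [Bool.or_eq_true, Nat.beq_eq, List.any_eq_true] at hres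
  obtain ⟨i, -, hi⟩ := hres.resolve_left hr0
  have hfx : ((MulAut.conj (H ^ i))⁻¹ * (MulAut.conj g * α)) X = X := by
    rw [MulAut.mul_apply, MulAut.mul_apply, ← hr, hi, ← h.pow_mod, MulAut.inv_apply,
      MulEquiv.symm_apply_eq, h.conj_pow_X]
  have hm := h.fix_X hfx
  have hconj : ∀ a : G, MulAut.conj a ∈ Cfsg.Inn G := fun a => ⟨a, rfl⟩
  exact (Subgroup.mul_mem_cancel_left _ (hconj g)).1
    ((Subgroup.mul_mem_cancel_left _ (inv_mem (hconj (H ^ i)))).1 hm)

end Cfsg.Agent.Lib.SporOutFiTwentyThree
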