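import Cfsg.Agent.Lib.SporPres.FiTwentyThree.Transposition
import Cfsg.Agent.Lib.AutCert.Engine

/-!
Centralisers in Fi23 through the equivariance of its 31671 transpositions.

An element commuting with `y` and sending a point `b` to a point `r` sends the transposition of `b` to
that of `r`, so it is determined by `r` as soon as `y` and one transposition generate the group.
-/

set_option autoImplicit false
set_option maxRecDepth 100000

namespace Cfsg.Agent.Lib.SporOutFiTwentyThree

open Cfsg.Agent.Lib.Coset Cfsg.Agent.Lib.SporPres.FiTwentyThree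
open Cfsg.Agent.Lib.AutCert (subst lettersOK same)
open Cfsg.Agent.Lib.AutCert.Model (letters_getD rep_lt subst_lt)

local notation "G" => Cfsg.Spor.Fi23

/-- The element of a word. -/
noncomputable def elt (w : List ℕ) : G := ev φ w

theorem elt_append (v w : List ℕ) : elt (v ++ w) = elt v * elt w := Coset.ev_append _ _ _

theorem elt_nil : elt [] = 1 := rfl

theorem elt_rep (n : ℕ) (w : List ℕ) : elt (Coset.rep n w) = elt w ^ n := Coset.ev_rep _ _ _

theorem app_eq {w : List ℕ} (hw : ∀ a ∈ w, a < tab.gens) {b : ℕ} (hb : b < tab.size) :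
    tab.app w b = (act (elt w) ⟨b, hb⟩ : ℕ) :=
  (act_app (List.all_eq_true.2 fun a ha => decide_eq_true (hw a ha)) ⟨b, hb⟩).symm

theorem elt_subst (X : List (List ℕ)) (w : List ℕ) :
    elt (subst X w) = ev (fun i => elt (X.getD i [])) w := by
  induction w with
  | nil => rfl
  | cons i w ih =>
    rw [Coset.ev_cons, ← ih, ← elt_append]
    rfl

/-- The point of the first generator. -/
def p0 : ℕ := 11589

theorem app_lt {w : List ℕ} (hw : ∀ a ∈ w, a < tab.gens) {b : ℕ} (hb : b < tab.size) :
    tab.app w b < tab.size :=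
  (act_app (List.all_eq_true.2 fun a ha => decide_eq_true (hw a ha)) ⟨b, hb⟩) ▸ Fin.isLt _

theorem p0_lt : p0 < tab.size := by decide +kernel

/-- The point of the first generator as a point of the action. -/
def P0 : Fin tab.size := ⟨p0, p0_lt⟩

theorem carry_p0 : act (ev φ carry) P0 = rep.z := Fin.ext (by
  rw [act_app (by decide +kernel) P0]
  show tab.app carry p0 = 0
  decide +kernel)

/-- Elements moving the point of the first generator alike conjugate it alike. -/
theorem conj_fst {g g' : G} (h : act g P0 = act g' P0) : g * φ 0 * g⁻¹ = g' * φ 0 * g'⁻¹ := by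
  set c := ev φ carry with hc
  have hz : act c⁻¹ rep.z = P0 := by rw [← carry_p0, map_inv, Equiv.Perm.inv_eq_iff_eq]
  have hk : (g * c⁻¹)⁻¹ * (g' * c⁻¹) ∈ subK := (rep.mem_iff _).2 (by
    show act ((g * c⁻¹)⁻¹ * (g' * c⁻¹)) rep.z = rep.z
    rw [map_mul, map_inv, Equiv.Perm.mul_apply, Equiv.Perm.inv_eq_iff_eq, map_mul, map_mul,
      Equiv.Perm.mul_apply, Equiv.Perm.mul_apply, hz, h])
  have hd : φ 0 = c⁻¹ * dEl * c := by rw [dEl_eq, ← hc]; group
  have he := dEl_commute hk
  calc g * φ 0 * g⁻¹ = (g * c⁻¹) * dEl * (g * c⁻¹)⁻¹ := by rw [hd]; group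
    _ = (g * c⁻¹) * (((g * c⁻¹)⁻¹ * (g' * c⁻¹)) * dEl * ((g * c⁻¹)⁻¹ * (g' * c⁻¹))⁻¹) *
        (g * c⁻¹)⁻¹ := by rw [he, mul_inv_cancel_right]
    _ = g' * φ 0 * g'⁻¹ := by rw [hd]; group

/-- The word of the transposition at the end of a path. -/
def tword (u : List ℕ) : List ℕ := u ++ ([0] ++ u.reverse)

theorem elt_tword (u : List ℕ) : elt (tword u) = elt u * φ 0 * (elt u)⁻¹ := by
  simp only [tword, elt, ev_append, rev_eq, ev_cons, ev_nil, mul_one, mul_assoc]

theorem tword_lt {u : List ℕ} (hu : ∀ a ∈ u, a < tab.gens) : ∀ a ∈ tword u, a < tab.gens :=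
  List.forall_mem_append.2 ⟨hu, List.forall_mem_append.2
    ⟨by simp only [List.mem_singleton, forall_eq]; decide +kernel,
      fun a ha => hu a (List.mem_reverse.1 ha)⟩⟩

theorem conj_tword {g : G} {u u' : List ℕ} (hu : ∀ a ∈ u, a < tab.gens) (hu' : ∀ a ∈ u', a < tab.gens)
    (h : (act g ⟨tab.app u p0, app_lt hu p0_lt⟩ : ℕ) = tab.app u' p0) :
    g * elt (tword u) * g⁻¹ = elt (tword u') := by
  have hp : act (g * elt u) P0 = act (elt u') P0 := by
    apply Fin.ext
    rw [map_mul, Equiv.Perm.mul_apply]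
    show (act g (act (elt u) P0) : ℕ) = (act (elt u') ⟨p0, p0_lt⟩ : ℕ)
    rw [← app_eq hu' p0_lt, ← h]
    exact congrArg (fun i : Fin tab.size => (act g i : ℕ)) (Fin.ext (app_eq hu p0_lt).symm)
  have := conj_fst hp
  rw [elt_tword, elt_tword, ← this]
  group

/-- Paths to the points of the generators. -/
def paths : ℕ → List ℕ
  | 1 => [0, 1]
  | 2 => [1, 2, 0, 1]
  | 3 => [2, 3, 1, 2, 0, 1]
  | 4 => [3, 4, 2, 3, 1, 2, 0, 1]
  | 5 => [4, 5, 3, 4, 2, 3, 1, 2, 0, 1]
  | 6 => [5, 6, 4, 5, 3, 4, 2, 3, 1, 2, 0, 1]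
  | 7 => [3, 7, 2, 3, 1, 2, 0, 1]
  | 8 => [7, 8, 3, 7, 2, 3, 1, 2, 0, 1]
  | 9 => [6, 9, 5, 6, 4, 5, 3, 4, 2, 3, 1, 2, 0, 1]
  | _ => []

theorem paths_lt : ∀ k < 10, ∀ a ∈ paths k, a < tab.gens := by decide +kernel

theorem step_path {a b : ℕ} {w : List ℕ} (h : List.elem (Coset.rep 3 [a, b]) pres.base = true)
    (hw : elt w * φ 0 * (elt w)⁻¹ = φ a) : elt ([a, b] ++ w) * φ 0 * (elt ([a, b] ++ w))⁻¹ = φ b := by
  have e : elt ([a, b] ++ w) = φ a * φ b * elt w := by
    rw [elt_append]; simp [elt, ev_cons, ev_nil]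
  have hi : ∀ k, (φ k)⁻¹ = φ k := fun k => inv_eq_of_mul_eq_one_right (pres.φ_inv k)
  calc _ = φ a * φ b * (elt w * φ 0 * (elt w)⁻¹) * (φ b)⁻¹ * (φ a)⁻¹ := by rw [e]; group
    _ = φ b := by rw [hw, hi, hi, braid a b h]

theorem path_conj : ∀ k < 10, elt (paths k) * φ 0 * (elt (paths k))⁻¹ = φ k := by
  have h0 : elt (paths 0) * φ 0 * (elt (paths 0))⁻¹ = φ 0 := by simp [paths, elt_nil]
  have h1 : elt (paths 1) * φ 0 * (elt (paths 1))⁻¹ = φ 1 := step_path (by decide +kernel) h0
  have h2 : elt (paths 2) * φ 0 * (elt (paths 2))⁻¹ = φ 2 := step_path (by decide +kernel) h1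
  have h3 : elt (paths 3) * φ 0 * (elt (paths 3))⁻¹ = φ 3 := step_path (by decide +kernel) h2
  have h4 : elt (paths 4) * φ 0 * (elt (paths 4))⁻¹ = φ 4 := step_path (by decide +kernel) h3
  have h5 : elt (paths 5) * φ 0 * (elt (paths 5))⁻¹ = φ 5 := step_path (by decide +kernel) h4
  have h6 : elt (paths 6) * φ 0 * (elt (paths 6))⁻¹ = φ 6 := step_path (by decide +kernel) h5
  have h7 : elt (paths 7) * φ 0 * (elt (paths 7))⁻¹ = φ 7 := step_path (by decide +kernel) h3
  have h8 : elt (paths 8) * φ 0 * (elt (paths 8))⁻¹ = φ 8 := step_path (by decide +kernel) h7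
  have h9 : elt (paths 9) * φ 0 * (elt (paths 9))⁻¹ = φ 9 := step_path (by decide +kernel) h6
  intro k hk
  interval_cases k <;> assumption

/-- The points of the generators. -/
noncomputable def bases : List ℕ := (List.range 10).map fun k => tab.app (paths k) p0

theorem bases_lt : ∀ b ∈ bases, b < tab.size := fun b hb => by
  obtain ⟨k, hk, rfl⟩ := List.mem_map.1 hb
  exact app_lt (paths_lt k (List.mem_range.1 hk)) p0_lt

theorem eq_one_of_central {g : G} (hg : ∀ k < 10, g * φ k = φ k * g) : g = 1 := by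
  have hc : g ∈ Subgroup.center G := by
    have h : Subgroup.closure (φ '' Set.Iio 10) ≤ Subgroup.centralizer {g} :=
      (Subgroup.closure_le _).2 (by
        rintro _ ⟨k, hk, rfl⟩
        rw [SetLike.mem_coe, Subgroup.mem_centralizer_singleton_iff]
        exact (hg k hk).symm)
    rw [gen] at h
    rw [Subgroup.mem_center_iff]
    exact fun a => Subgroup.mem_centralizer_singleton_iff.1 (h (Subgroup.mem_top a))
  have := isFiTwentyThree.1
  rcases IsSimpleGroup.eq_bot_or_eq_top_of_normal (Subgroup.center G) inferInstance with e | e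
  · rwa [e, Subgroup.mem_bot] at hc
  · exfalso
    have h01 : φ 0 ∈ Subgroup.center G := e ▸ Subgroup.mem_top _
    have hne : tab.app [0, 1] p0 ≠ tab.app [1, 0] p0 := by decide +kernel
    refine hne ?_
    rw [app_eq (by decide +kernel) p0_lt, app_eq (by decide +kernel) p0_lt]
    refine congrArg (fun x : G => (act x ⟨p0, p0_lt⟩ : ℕ)) ?_
    simp only [elt, ev_cons, ev_nil, mul_one]
    exact (Subgroup.mem_center_iff.1 h01 (φ 1)).symm

theorem eq_of_bases {g g' : G} (h : ∀ i : Fin tab.size, (i : ℕ) ∈ bases → act g i = act g' i) : g = g' := by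
  refine eq_of_inv_mul_eq_one (eq_one_of_central fun k hk => ?_)
  have hp : act (g * elt (paths k)) P0 = act (g' * elt (paths k)) P0 := by
    rw [map_mul, map_mul, Equiv.Perm.mul_apply, Equiv.Perm.mul_apply]
    refine h _ (List.mem_map.2 ⟨k, List.mem_range.2 hk, ?_⟩)
    exact app_eq (paths_lt k hk) p0_lt
  have e := conj_fst hp
  have e1 : ∀ a : G, a * elt (paths k) * φ 0 * (a * elt (paths k))⁻¹ = a * φ k * a⁻¹ := fun a => by
    conv_rhs => rw [← path_conj k hk]
    group
  rw [e1, e1] at e
  calc g⁻¹ * g' * φ k = g⁻¹ * (g' * φ k * g'⁻¹) * g' := by group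
    _ = φ k * (g⁻¹ * g') := by rw [← e]; group

theorem same_spec {v w : List ℕ} (hv : ∀ a ∈ v, a < tab.gens) (hw : ∀ a ∈ w, a < tab.gens)
    (h : same tab bases v w = true) : elt v = elt w := by
  simp only [same, List.all_eq_true, Nat.beq_eq] at h
  refine eq_of_bases fun i hi => Fin.ext ?_
  rw [← app_eq hv i.2, ← app_eq hw i.2]
  exact h i hi

/-- What is known about an orbit of `y`. -/
inductive Ent
  | kill (wd : List ℕ)
  | good (w : List ℕ)

/-- A certificate for the centraliser of `y`. -/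
structure Cen where
  /-- The word of `y`. -/
  y : List ℕ
  /-- The path to the first point. -/
  u0 : List ℕ
  /-- The paths to the representatives of the orbits of `y`. -/
  reps : List (List ℕ × Ent)
  /-- For each point its orbit and exponent. -/
  code : Store
  /-- The generators as words in `y` and the transposition of the first point. -/
  gw : List (List ℕ)

/-- A word in `y` and a transposition fixes a point. -/
noncomputable def fixTest (y u wd : List ℕ) : Bool :=
  Nat.beq (tab.app (subst [y, tword u] wd) (tab.app u p0)) (tab.app u p0)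

namespace Cen

variable (C : Cen)

/-- The first point. -/
noncomputable def b0 : ℕ := tab.app C.u0 p0

/-- The point of a representative. -/
noncomputable def pt (c : ℕ) : ℕ := tab.app (C.reps.getD c ([], .kill [])).1 p0

/-- The check of an orbit. -/
noncomputable def entOK (e : List ℕ × Ent) : Bool :=
  lettersOK tab [e.1] &&
  match e.2 with
  | .kill wd => fixTest C.y C.u0 wd != fixTest C.y e.1 wd
  | .good w => lettersOK tab [w] && same tab bases (w ++ C.y) (C.y ++ w) &&
      Nat.beq (tab.app w C.b0) (tab.app e.1 p0)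

/-- The checks of the orbits in a range. -/
noncomputable def entsOK (lo len : ℕ) : Bool := ((C.reps.drop lo).take len).all C.entOK

/-- The packed orbit and exponent of a point. -/
noncomputable def codeAt (k : ℕ) : ℕ := nodeOf C.code k

/-- The orbits cover the points of a range. -/
noncomputable def coverOK (lo len : ℕ) : Bool :=
  (List.range len).all fun i =>
    let v := C.codeAt (lo + i)
    let w := C.codeAt (tab.app C.y (lo + i))
    (!(Nat.beq (v % 32) 0) || (decide (v / 32 < C.reps.length) && Nat.beq (C.pt (v / 32)) (lo + i))) &&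
      (Nat.beq (w % 32) 0 || (Nat.beq (w / 32) (v / 32) && Nat.beq (w % 32) (v % 32 + 1)))

/-- The letters and generators are right. -/
noncomputable def headOK : Bool :=
  lettersOK tab [C.y] && lettersOK tab [C.u0] &&
    (List.range 10).all fun k => same tab bases [k] (subst [C.y, tword C.u0] (C.gw.getD k []))

/-- The known centralising words. -/
def goods : List (List ℕ) := C.reps.filterMap fun e =>
  match e.2 with
  | .kill _ => none
  | .good w => some w

end Cen

/-- All checks of a centraliser certificate. -/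
structure CenOK (C : Cen) : Prop where
  head : C.headOK = true
  ents : ∀ e ∈ C.reps, C.entOK e = true
  cover : ∀ k < tab.size, C.coverOK k 1 = true

theorem all_ents {C : Cen} {B : ℕ} (hB : 0 < B)
    (h : ∀ k, k * B < C.reps.length → C.entsOK (k * B) B = true) : ∀ e ∈ C.reps, C.entOK e = true := by
  intro e he
  obtain ⟨i, hi, rfl⟩ := List.getElem_of_mem he
  have hk : i / B * B ≤ i := Nat.div_mul_le_self i B
  have hd := Nat.div_add_mod' i B
  have hm := Nat.mod_lt i hB
  refine List.all_eq_true.1 (h (i / B) (by omega)) _ (List.mem_iff_getElem?.2 ⟨i % B, ?_⟩)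
  rw [List.getElem?_take, if_pos hm, List.getElem?_drop, hd, List.getElem?_eq_getElem hi]

theorem all_cover {C : Cen} {B : ℕ} (hB : 0 < B)
    (h : ∀ k, k * B < tab.size → C.coverOK (k * B) (min B (tab.size - k * B)) = true) :
    ∀ k < tab.size, C.coverOK k 1 = true := by
  intro k hk
  have hd := Nat.div_add_mod' k B
  have hm := Nat.mod_lt k hB
  have := h (k / B) (by omega)
  simp only [Cen.coverOK, List.all_eq_true, List.mem_range] at this ⊢
  intro i hi
  obtain rfl : i = 0 := by omega
  have := this (k % B) (lt_min hm (by omega))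
  rwa [hd] at this

variable {C : Cen}

theorem CenOK.letters (h : CenOK C) : (∀ a ∈ C.y, a < tab.gens) ∧ (∀ a ∈ C.u0, a < tab.gens) := by
  have h' := h.head
  simp only [Cen.headOK, lettersOK, List.all_cons, List.all_nil, Bool.and_true, Bool.and_eq_true] at h'
  simp only [List.all_eq_true, decide_eq_true_eq] at h'
  exact ⟨h'.1.1, h'.1.2⟩

theorem CenOK.gen_eq (h : CenOK C) {k : ℕ} (hk : k < 10) :
    φ k = ev (fun i => [elt C.y, elt (tword C.u0)].getD i 1) (C.gw.getD k []) := by
  obtain ⟨hy, hu⟩ := h.letters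
  have h' := h.head
  simp only [Cen.headOK, Bool.and_eq_true] at h'
  have hl : lettersOK tab [C.y, tword C.u0] = true := by
    simp only [lettersOK, List.all_cons, List.all_nil, Bool.and_eq_true, List.all_eq_true, decide_eq_true_eq]
    exact ⟨hy, tword_lt hu, trivial⟩
  have := same_spec (v := [k]) (by intro a ha; rw [List.mem_singleton.1 ha]; exact hk) (subst_lt hl _)
    (List.all_eq_true.1 h'.2 k (List.mem_range.2 hk))
  rw [elt_subst] at this
  rw [← show elt [k] = φ k by simp [elt, ev_cons, ev_nil], this]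
  congr 1
  funext i
  match i with
  | 0 => rfl
  | 1 => rfl
  | n + 2 => rfl

theorem CenOK.orbit (h : CenOK C) : ∀ (i : ℕ) (k : Fin tab.size), C.codeAt k % 32 = i →
    ∃ c < C.reps.length, ∃ hc : C.pt c < tab.size, k = act (elt C.y ^ i) ⟨C.pt c, hc⟩
  | 0, k, hi => by
    have hh := h.cover k k.2
    simp only [Cen.coverOK, List.all_eq_true, List.mem_range, Bool.and_eq_true, Bool.or_eq_true,
      Bool.not_eq_true', decide_eq_true_eq, Nat.beq_eq] at hh
    have h0 := (hh 0 (by norm_num)).1
    rw [Nat.add_zero, hi] at h0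
    obtain ⟨hc, he⟩ := h0.resolve_left (by decide)
    refine ⟨C.codeAt k / 32, hc, lt_of_eq_of_lt he k.2, Fin.ext ?_⟩
    rw [pow_zero, map_one]
    exact he.symm
  | i + 1, k, hi => by
    set k' : Fin tab.size := (act (elt C.y))⁻¹ k with hk'
    have hh := h.cover k' k'.2
    simp only [Cen.coverOK, List.all_eq_true, List.mem_range, Bool.and_eq_true, Bool.or_eq_true,
      Nat.beq_eq] at hh
    have h0 := (hh 0 (by norm_num)).2
    have hy : tab.app C.y (k' : ℕ) = k := by
      rw [app_eq h.letters.1 k'.2]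
      simp [hk']
    rw [Nat.add_zero, hy, hi] at h0
    obtain ⟨-, h1⟩ := h0.resolve_left (by omega)
    obtain ⟨c, hc, hp, he⟩ := CenOK.orbit h i k' (by omega)
    refine ⟨c, hc, hp, ?_⟩
    rw [pow_succ', map_mul, Equiv.Perm.mul_apply, ← he, hk', Equiv.Perm.inv_def, Equiv.apply_symm_apply]

theorem CenOK.fix_one (h : CenOK C) {g : G} (hg : g * elt C.y = elt C.y * g)
    (hb : (act g ⟨C.b0, app_lt h.letters.2 p0_lt⟩ : ℕ) = C.b0) : g = 1 := by
  have ht := conj_tword (g := g) h.letters.2 h.letters.2 hb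
  refine eq_one_of_central fun k hk => ?_
  have hc : MulAut.conj g (φ k) = φ k := by
    rw [h.gen_eq hk]
    show (MulAut.conj g).toMonoidHom _ = _
    rw [ev_comp]
    refine congrArg List.prod (List.map_congr_left fun i _ => ?_)
    match i with
    | 0 => exact (MulAut.conj_apply g _).trans (by
        show g * elt C.y * g⁻¹ = elt C.y
        rw [hg, mul_inv_cancel_right])
    | 1 => exact (MulAut.conj_apply g _).trans ht
    | n + 2 => exact map_one _
  rw [MulAut.conj_apply, mul_inv_eq_iff_eq_mul] at hc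
  exact hc

/-- The centraliser of `y` consists of its powers times the known words. -/
theorem CenOK.cent (h : CenOK C) {g : G} (hg : g * elt C.y = elt C.y * g) :
    ∃ i < 32, ∃ w ∈ C.goods, (∀ a ∈ w, a < tab.gens) ∧ g = elt C.y ^ i * elt w := by
  obtain ⟨hyl, hul⟩ := h.letters
  have hb0 : C.b0 < tab.size := app_lt hul p0_lt
  set q : Fin tab.size := act g ⟨C.b0, hb0⟩ with hq
  obtain ⟨c, hc, hp, he⟩ := h.orbit _ q rfl
  set i := C.codeAt q % 32
  refine ⟨i, Nat.mod_lt _ (by norm_num), ?_⟩
  set g' := (elt C.y ^ i)⁻¹ * g with hg'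
  have hcomm : g' * elt C.y = elt C.y * g' :=
    ((Commute.inv_left (Commute.pow_self (elt C.y) i)).mul_left hg)
  have hmove : (act g' ⟨C.b0, hb0⟩ : ℕ) = C.pt c := by
    rw [hg', map_mul, map_inv, Equiv.Perm.mul_apply, ← hq, he]
    simp
  set e := C.reps.getD c ([], .kill []) with he'
  have hmem : e ∈ C.reps := by
    rw [he', List.getD_eq_getElem _ _ hc]
    exact List.getElem_mem _
  have hok := h.ents e hmem
  simp only [Cen.entOK, Bool.and_eq_true] at hok
  have hul' : ∀ a ∈ e.1, a < tab.gens := by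
    simpa [lettersOK] using hok.1
  rcases hcase : e.2 with wd | w
  · exfalso
    have h2 := hok.2
    rw [hcase] at h2
    simp only [bne_iff_ne, ne_eq] at h2
    refine h2 ?_
    have hl : ∀ u, (∀ a ∈ u, a < tab.gens) → lettersOK tab [C.y, tword u] = true := fun u hu => by
      simp only [lettersOK, List.all_cons, List.all_nil, Bool.and_eq_true, List.all_eq_true, decide_eq_true_eq]
      exact ⟨hyl, tword_lt hu, trivial⟩
    have ht := conj_tword (g := g') hul hul' hmove
    have hconj : g' * elt (subst [C.y, tword C.u0] wd) = elt (subst [C.y, tword e.1] wd) * g' := by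
      rw [← mul_inv_eq_iff_eq_mul, ← MulAut.conj_apply, elt_subst, elt_subst]
      show (MulAut.conj g').toMonoidHom _ = _
      rw [ev_comp]
      refine congrArg List.prod (List.map_congr_left fun j _ => ?_)
      match j with
      | 0 => exact (MulAut.conj_apply g' _).trans (by
          show g' * elt C.y * g'⁻¹ = elt C.y
          rw [hcomm, mul_inv_cancel_right])
      | 1 => exact (MulAut.conj_apply g' _).trans ht
      | n + 2 => exact map_one _
    rw [Bool.eq_iff_iff]
    simp only [fixTest, Nat.beq_eq]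
    show tab.app _ C.b0 = C.b0 ↔ tab.app _ (tab.app e.1 p0) = tab.app e.1 p0
    rw [show tab.app e.1 p0 = C.pt c from rfl]
    rw [app_eq (subst_lt (hl _ hul) wd) hb0, app_eq (subst_lt (hl _ hul') wd) hp]
    have hm : act g' ⟨C.b0, hb0⟩ = ⟨C.pt c, hp⟩ := Fin.ext hmove
    show (act _ (⟨C.b0, hb0⟩ : Fin tab.size) : ℕ) = C.b0 ↔ (act _ (⟨C.pt c, hp⟩ : Fin tab.size) : ℕ) = C.pt c
    rw [← hm, ← Equiv.Perm.mul_apply, ← map_mul, ← hconj, map_mul, Equiv.Perm.mul_apply, ← hmove,
      ← Fin.ext_iff, (act g').injective.eq_iff, Fin.ext_iff]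
  · have h2 := hok.2
    rw [hcase] at h2
    simp only [Bool.and_eq_true, lettersOK, List.all_cons, List.all_nil, List.all_eq_true, decide_eq_true_eq,
      Nat.beq_eq] at h2
    obtain ⟨⟨⟨hw, -⟩, hwy⟩, hwb⟩ := h2
    have hwy' := same_spec (List.forall_mem_append.2 ⟨hw, hyl⟩) (List.forall_mem_append.2 ⟨hyl, hw⟩) hwy
    rw [elt_append, elt_append] at hwy'
    refine ⟨w, List.mem_filterMap.2 ⟨e, hmem, by rw [hcase]⟩, hw, ?_⟩
    have h1 : (elt w)⁻¹ * g' = 1 := by
      refine h.fix_one ((Commute.inv_left hwy').mul_left hcomm) ?_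
      rw [app_eq hw hb0] at hwb
      have hm : act g' ⟨C.b0, hb0⟩ = act (elt w) ⟨C.b0, hb0⟩ := Fin.ext (hmove.trans hwb.symm)
      show (act ((elt w)⁻¹ * g') ⟨C.b0, hb0⟩ : ℕ) = C.b0
      rw [map_mul, map_inv, Equiv.Perm.mul_apply, hm, Equiv.Perm.inv_def, Equiv.symm_apply_apply]
    rw [inv_mul_eq_one] at h1
    rw [h1, hg', mul_inv_cancel_left]

end Cfsg.Agent.Lib.SporOutFiTwentyThree
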