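import Cfsg.Agent.Lib.SporOutFiTwentyThree.DataX

/-! The orbits are right. -/

set_option autoImplicit false
set_option maxRecDepth 100000

namespace Cfsg.Agent.Lib.SporOutFiTwentyThree

open Cfsg.Agent.Lib.Coset Cfsg.Agent.Lib.SporPres.FiTwentyThree

theorem entsX0 : xCen.entsOK (0 * 150) 150 = true := by decide +kernel

theorem entsX1 : xCen.entsOK (1 * 150) 150 = true := by decide +kernel

theorem entsX2 : xCen.entsOK (2 * 150) 150 = true := by decide +kernel

theorem entsX3 : xCen.entsOK (3 * 150) 150 = true := by decide +kernel

theorem entsX4 : xCen.entsOK (4 * 150) 150 = true := by decide +kernel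

theorem entsX5 : xCen.entsOK (5 * 150) 150 = true := by decide +kernel

theorem entsX6 : xCen.entsOK (6 * 150) 150 = true := by decide +kernel

theorem entsX7 : xCen.entsOK (7 * 150) 150 = true := by decide +kernel

theorem entsX8 : xCen.entsOK (8 * 150) 150 = true := by decide +kernel

theorem entsX9 : xCen.entsOK (9 * 150) 150 = true := by decide +kernel

theorem entsX10 : xCen.entsOK (10 * 150) 150 = true := by decide +kernel

theorem entsX11 : xCen.entsOK (11 * 150) 150 = true := by decide +kernel

theorem entsX12 : xCen.entsOK (12 * 150) 150 = true := by decide +kernel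

theorem entsX : ∀ e ∈ xCen.reps, xCen.entOK e = true :=
  all_ents (B := 150) (by norm_num) fun k hk => by
    have hl : xCen.reps.length = 1863 := by decide +kernel
    have hk' : k < 13 := by omega
    interval_cases k
    · exact entsX0
    · exact entsX1
    · exact entsX2
    · exact entsX3
    · exact entsX4
    · exact entsX5
    · exact entsX6
    · exact entsX7
    · exact entsX8
    · exact entsX9
    · exact entsX10
    · exact entsX11
    · exact entsX12

end Cfsg.Agent.Lib.SporOutFiTwentyThree
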