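import Cfsg.Agent.Lib.SporOutFiTwentyThree.DataY

/-! The orbits are right. -/

set_option autoImplicit false
set_option maxRecDepth 100000

namespace Cfsg.Agent.Lib.SporOutFiTwentyThree

open Cfsg.Agent.Lib.Coset Cfsg.Agent.Lib.SporPres.FiTwentyThree

theorem entsY14 : yCen.entsOK (14 * 70) 70 = true := by decide +kernel

theorem entsY15 : yCen.entsOK (15 * 70) 70 = true := by decide +kernel

theorem entsY16 : yCen.entsOK (16 * 70) 70 = true := by decide +kernel

theorem entsY17 : yCen.entsOK (17 * 70) 70 = true := by decide +kernel

theorem entsY18 : yCen.entsOK (18 * 70) 70 = true := by decide +kernel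

theorem entsY19 : yCen.entsOK (19 * 70) 70 = true := by decide +kernel

theorem entsY20 : yCen.entsOK (20 * 70) 70 = true := by decide +kernel

theorem entsY21 : yCen.entsOK (21 * 70) 70 = true := by decide +kernel

theorem entsY22 : yCen.entsOK (22 * 70) 70 = true := by decide +kernel

theorem entsY23 : yCen.entsOK (23 * 70) 70 = true := by decide +kernel

theorem entsY24 : yCen.entsOK (24 * 70) 70 = true := by decide +kernel

theorem entsY25 : yCen.entsOK (25 * 70) 70 = true := by decide +kernel

theorem entsY26 : yCen.entsOK (26 * 70) 70 = true := by decide +kernel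

theorem entsY27 : yCen.entsOK (27 * 70) 70 = true := by decide +kernel

theorem entsY28 : yCen.entsOK (28 * 70) 70 = true := by decide +kernel

end Cfsg.Agent.Lib.SporOutFiTwentyThree
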