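import Cfsg.Agent.Lib.SporOutFiTwentyThree.EntsYLow
import Cfsg.Agent.Lib.SporOutFiTwentyThree.EntsYHigh

/-! The orbits are right. -/

set_option autoImplicit false
set_option maxRecDepth 100000

namespace Cfsg.Agent.Lib.SporOutFiTwentyThree

open Cfsg.Agent.Lib.Coset Cfsg.Agent.Lib.SporPres.FiTwentyThree

theorem entsY : ∀ e ∈ yCen.reps, yCen.entOK e = true :=
  all_ents (B := 70) (by norm_num) fun k hk => by
    have hl : yCen.reps.length = 1993 := by decide +kernel
    have hk' : k < 29 := by omega
    interval_cases k
    · exact entsY0
    · exact entsY1
    · exact entsY2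
    · exact entsY3
    · exact entsY4
    · exact entsY5
    · exact entsY6
    · exact entsY7
    · exact entsY8
    · exact entsY9
    · exact entsY10
    · exact entsY11
    · exact entsY12
    · exact entsY13
    · exact entsY14
    · exact entsY15
    · exact entsY16
    · exact entsY17
    · exact entsY18
    · exact entsY19
    · exact entsY20
    · exact entsY21
    · exact entsY22
    · exact entsY23
    · exact entsY24
    · exact entsY25
    · exact entsY26
    · exact entsY27
    · exact entsY28

end Cfsg.Agent.Lib.SporOutFiTwentyThree
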