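import Cfsg.Agent.Lib.SporOutFiTwentyThree.DataY

/-! The orbits are right. -/

set_option autoImplicit false
set_option maxRecDepth 100000

namespace Cfsg.Agent.Lib.SporOutFiTwentyThree

open Cfsg.Agent.Lib.Coset Cfsg.Agent.Lib.SporPres.FiTwentyThree

theorem entsY0 : yCen.entsOK (0 * 70) 70 = true := by decide +kernel

theorem entsY1 : yCen.entsOK (1 * 70) 70 = true := by decide +kernel

theorem entsY2 : yCen.entsOK (2 * 70) 70 = true := by decide +kernel

theorem entsY3 : yCen.entsOK (3 * 70) 70 = true := by decide +kernel

theorem entsY4 : yCen.entsOK (4 * 70) 70 = true := by decide +kernel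

theorem entsY5 : yCen.entsOK (5 * 70) 70 = true := by decide +kernel

theorem entsY6 : yCen.entsOK (6 * 70) 70 = true := by decide +kernel

theorem entsY7 : yCen.entsOK (7 * 70) 70 = true := by decide +kernel

theorem entsY8 : yCen.entsOK (8 * 70) 70 = true := by decide +kernel

theorem entsY9 : yCen.entsOK (9 * 70) 70 = true := by decide +kernel

theorem entsY10 : yCen.entsOK (10 * 70) 70 = true := by decide +kernel

theorem entsY11 : yCen.entsOK (11 * 70) 70 = true := by decide +kernel

theorem entsY12 : yCen.entsOK (12 * 70) 70 = true := by decide +kernel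

theorem entsY13 : yCen.entsOK (13 * 70) 70 = true := by decide +kernel

end Cfsg.Agent.Lib.SporOutFiTwentyThree
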