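import Cfsg.Agent.Lib.SporOutFiTwentyThree.CertData

/-! All automorphisms of Fi23 are inner. -/

set_option autoImplicit false
set_option maxRecDepth 100000

namespace Cfsg.Agent.Lib.SporOutFiTwentyThree

open Cfsg.Agent.Lib.Coset Cfsg.Agent.Lib.SporPres.FiTwentyThree

theorem letters_g0 : AutCert.lettersOK tab [cert.g0] = true ∧ AutCert.lettersOK tab [cert.s0] = true ∧
    AutCert.lettersOK tab [cert.ud] = true := by decide +kernel

theorem eq_hx : AutCert.same tab bases (cert.hWord ++ cert.xWord) (Coset.rep 3 cert.xWord ++ cert.hWord) = true := by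
  decide +kernel

theorem eq_x : AutCert.same tab bases (Coset.rep 17 cert.xWord) [] = true ∧
    (!Nat.beq (tab.app cert.xWord 0) 0) = true := by decide +kernel

theorem eq_y : AutCert.same tab bases (Coset.rep 16 cert.yC.y) [] = true ∧
    AutCert.same tab bases (cert.yC.y ++ cert.s0) (cert.s0 ++ cert.yC.y) = true := by decide +kernel

theorem eq_t0 : Nat.beq (tab.app (tword cert.ud) (bases.getD 0 0)) (tab.app (AutCert.subst [cert.xWord, cert.hWord, cert.sWord] cert.tWord) (bases.getD 0 0)) = true := by decide +kernel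

theorem eq_t1 : Nat.beq (tab.app (tword cert.ud) (bases.getD 1 0)) (tab.app (AutCert.subst [cert.xWord, cert.hWord, cert.sWord] cert.tWord) (bases.getD 1 0)) = true := by decide +kernel

theorem eq_t2 : Nat.beq (tab.app (tword cert.ud) (bases.getD 2 0)) (tab.app (AutCert.subst [cert.xWord, cert.hWord, cert.sWord] cert.tWord) (bases.getD 2 0)) = true := by decide +kernel

theorem eq_t3 : Nat.beq (tab.app (tword cert.ud) (bases.getD 3 0)) (tab.app (AutCert.subst [cert.xWord, cert.hWord, cert.sWord] cert.tWord) (bases.getD 3 0)) = true := by decide +kernel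

theorem eq_t4 : Nat.beq (tab.app (tword cert.ud) (bases.getD 4 0)) (tab.app (AutCert.subst [cert.xWord, cert.hWord, cert.sWord] cert.tWord) (bases.getD 4 0)) = true := by decide +kernel

theorem eq_t5 : Nat.beq (tab.app (tword cert.ud) (bases.getD 5 0)) (tab.app (AutCert.subst [cert.xWord, cert.hWord, cert.sWord] cert.tWord) (bases.getD 5 0)) = true := by decide +kernel

theorem eq_t6 : Nat.beq (tab.app (tword cert.ud) (bases.getD 6 0)) (tab.app (AutCert.subst [cert.xWord, cert.hWord, cert.sWord] cert.tWord) (bases.getD 6 0)) = true := by decide +kernel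

theorem eq_t7 : Nat.beq (tab.app (tword cert.ud) (bases.getD 7 0)) (tab.app (AutCert.subst [cert.xWord, cert.hWord, cert.sWord] cert.tWord) (bases.getD 7 0)) = true := by decide +kernel

theorem eq_t8 : Nat.beq (tab.app (tword cert.ud) (bases.getD 8 0)) (tab.app (AutCert.subst [cert.xWord, cert.hWord, cert.sWord] cert.tWord) (bases.getD 8 0)) = true := by decide +kernel

theorem eq_t9 : Nat.beq (tab.app (tword cert.ud) (bases.getD 9 0)) (tab.app (AutCert.subst [cert.xWord, cert.hWord, cert.sWord] cert.tWord) (bases.getD 9 0)) = true := by decide +kernel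

theorem bases_eq : bases = (List.range 10).map fun i => bases.getD i 0 := by decide +kernel

theorem eq_t : AutCert.same tab bases (tword cert.ud) (AutCert.subst [cert.xWord, cert.hWord, cert.sWord] cert.tWord) = true := by
  rw [AutCert.same, bases_eq, List.all_eq_true]
  intro b hb
  obtain ⟨i, hi, rfl⟩ := List.mem_map.1 hb
  have hi' : i < 10 := List.mem_range.1 hi
  interval_cases i
  · exact eq_t0
  · exact eq_t1
  · exact eq_t2
  · exact eq_t3
  · exact eq_t4
  · exact eq_t5
  · exact eq_t6
  · exact eq_t7
  · exact eq_t8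
  · exact eq_t9

theorem eq_gw0 : AutCert.same tab bases [0] (AutCert.subst [cert.xWord, tword cert.ud] (cert.gwd.getD 0 [])) = true := by decide +kernel

theorem eq_gw1 : AutCert.same tab bases [1] (AutCert.subst [cert.xWord, tword cert.ud] (cert.gwd.getD 1 [])) = true := by decide +kernel

theorem eq_gw2 : AutCert.same tab bases [2] (AutCert.subst [cert.xWord, tword cert.ud] (cert.gwd.getD 2 [])) = true := by decide +kernel

theorem eq_gw3 : AutCert.same tab bases [3] (AutCert.subst [cert.xWord, tword cert.ud] (cert.gwd.getD 3 [])) = true := by decide +kernel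

theorem eq_gw4 : AutCert.same tab bases [4] (AutCert.subst [cert.xWord, tword cert.ud] (cert.gwd.getD 4 [])) = true := by decide +kernel

theorem eq_gw5 : AutCert.same tab bases [5] (AutCert.subst [cert.xWord, tword cert.ud] (cert.gwd.getD 5 [])) = true := by decide +kernel

theorem eq_gw6 : AutCert.same tab bases [6] (AutCert.subst [cert.xWord, tword cert.ud] (cert.gwd.getD 6 [])) = true := by decide +kernel

theorem eq_gw7 : AutCert.same tab bases [7] (AutCert.subst [cert.xWord, tword cert.ud] (cert.gwd.getD 7 [])) = true := by decide +kernel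

theorem eq_gw8 : AutCert.same tab bases [8] (AutCert.subst [cert.xWord, tword cert.ud] (cert.gwd.getD 8 [])) = true := by decide +kernel

theorem eq_gw9 : AutCert.same tab bases [9] (AutCert.subst [cert.xWord, tword cert.ud] (cert.gwd.getD 9 [])) = true := by decide +kernel

theorem eq_gw : ((List.range 10).all fun k =>
    AutCert.same tab bases [k] (AutCert.subst [cert.xWord, tword cert.ud] (cert.gwd.getD k []))) = true := by
  rw [List.all_eq_true]
  intro k hk
  have hk' : k < 10 := List.mem_range.1 hk
  interval_cases k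
  · exact eq_gw0
  · exact eq_gw1
  · exact eq_gw2
  · exact eq_gw3
  · exact eq_gw4
  · exact eq_gw5
  · exact eq_gw6
  · exact eq_gw7
  · exact eq_gw8
  · exact eq_gw9

theorem eq_kill : (cert.killers.all fun r => decide (r.2.2 < tab.size) &&
    AutCert.same tab bases (Coset.rep r.1 (AutCert.subst [cert.xWord, cert.hWord, cert.sWord] r.2.1)) []) = true := by
  decide +kernel

theorem eq_goods : (cert.xC.goods.all fun w => AutCert.same tab bases w []) = true := by decide +kernel

theorem eqs_ok : cert.eqsOK = true := by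
  simp only [Cert.eqsOK, Bool.and_eq_true]
  exact ⟨⟨⟨⟨⟨⟨⟨⟨⟨letters_g0.1, letters_g0.2.1⟩, eq_hx⟩, eq_x.1⟩, eq_x.2⟩, eq_y.1⟩, eq_y.2⟩,
    ⟨⟨letters_g0.2.2, eq_t⟩, eq_gw⟩⟩, eq_kill⟩, eq_goods⟩


end Cfsg.Agent.Lib.SporOutFiTwentyThree
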