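import Cfsg.Agent.Lib.SporOutFiTwentyThree.CertData

/-! All automorphisms of Fi23 are inner. -/

set_option autoImplicit false
set_option maxRecDepth 100000

namespace Cfsg.Agent.Lib.SporOutFiTwentyThree

open Cfsg.Agent.Lib.Coset Cfsg.Agent.Lib.SporPres.FiTwentyThree

theorem headX0 : AutCert.same tab bases [0] (AutCert.subst [xCen.y, tword xCen.u0] (xCen.gw.getD 0 [])) = true := by decide +kernel

theorem headX1 : AutCert.same tab bases [1] (AutCert.subst [xCen.y, tword xCen.u0] (xCen.gw.getD 1 [])) = true := by decide +kernel

theorem headX2 : AutCert.same tab bases [2] (AutCert.subst [xCen.y, tword xCen.u0] (xCen.gw.getD 2 [])) = true := by decide +kernel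

theorem headX3 : AutCert.same tab bases [3] (AutCert.subst [xCen.y, tword xCen.u0] (xCen.gw.getD 3 [])) = true := by decide +kernel

theorem headX4 : AutCert.same tab bases [4] (AutCert.subst [xCen.y, tword xCen.u0] (xCen.gw.getD 4 [])) = true := by decide +kernel

theorem headX5 : AutCert.same tab bases [5] (AutCert.subst [xCen.y, tword xCen.u0] (xCen.gw.getD 5 [])) = true := by decide +kernel

theorem headX6 : AutCert.same tab bases [6] (AutCert.subst [xCen.y, tword xCen.u0] (xCen.gw.getD 6 [])) = true := by decide +kernel

theorem headX7 : AutCert.same tab bases [7] (AutCert.subst [xCen.y, tword xCen.u0] (xCen.gw.getD 7 [])) = true := by decide +kernel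

theorem headX8 : AutCert.same tab bases [8] (AutCert.subst [xCen.y, tword xCen.u0] (xCen.gw.getD 8 [])) = true := by decide +kernel

theorem headX9 : AutCert.same tab bases [9] (AutCert.subst [xCen.y, tword xCen.u0] (xCen.gw.getD 9 [])) = true := by decide +kernel

theorem headX : xCen.headOK = true := by
  have h0 : AutCert.lettersOK tab [xCen.y] = true ∧ AutCert.lettersOK tab [xCen.u0] = true := by decide +kernel
  simp only [Cen.headOK, h0.1, h0.2, Bool.and_self, Bool.true_and, List.all_eq_true, List.mem_range]
  intro k hk
  interval_cases k
  · exact headX0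
  · exact headX1
  · exact headX2
  · exact headX3
  · exact headX4
  · exact headX5
  · exact headX6
  · exact headX7
  · exact headX8
  · exact headX9

theorem headY0 : AutCert.same tab bases [0] (AutCert.subst [yCen.y, tword yCen.u0] (yCen.gw.getD 0 [])) = true := by decide +kernel

theorem headY1 : AutCert.same tab bases [1] (AutCert.subst [yCen.y, tword yCen.u0] (yCen.gw.getD 1 [])) = true := by decide +kernel

theorem headY2 : AutCert.same tab bases [2] (AutCert.subst [yCen.y, tword yCen.u0] (yCen.gw.getD 2 [])) = true := by decide +kernel

theorem headY3 : AutCert.same tab bases [3] (AutCert.subst [yCen.y, tword yCen.u0] (yCen.gw.getD 3 [])) = true := by decide +kernel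

theorem headY4 : AutCert.same tab bases [4] (AutCert.subst [yCen.y, tword yCen.u0] (yCen.gw.getD 4 [])) = true := by decide +kernel

theorem headY5 : AutCert.same tab bases [5] (AutCert.subst [yCen.y, tword yCen.u0] (yCen.gw.getD 5 [])) = true := by decide +kernel

theorem headY6 : AutCert.same tab bases [6] (AutCert.subst [yCen.y, tword yCen.u0] (yCen.gw.getD 6 [])) = true := by decide +kernel

theorem headY7 : AutCert.same tab bases [7] (AutCert.subst [yCen.y, tword yCen.u0] (yCen.gw.getD 7 [])) = true := by decide +kernel

theorem headY8 : AutCert.same tab bases [8] (AutCert.subst [yCen.y, tword yCen.u0] (yCen.gw.getD 8 [])) = true := by decide +kernel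

theorem headY9 : AutCert.same tab bases [9] (AutCert.subst [yCen.y, tword yCen.u0] (yCen.gw.getD 9 [])) = true := by decide +kernel

theorem headY : yCen.headOK = true := by
  have h0 : AutCert.lettersOK tab [yCen.y] = true ∧ AutCert.lettersOK tab [yCen.u0] = true := by decide +kernel
  simp only [Cen.headOK, h0.1, h0.2, Bool.and_self, Bool.true_and, List.all_eq_true, List.mem_range]
  intro k hk
  interval_cases k
  · exact headY0
  · exact headY1
  · exact headY2
  · exact headY3
  · exact headY4
  · exact headY5
  · exact headY6
  · exact headY7
  · exact headY8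
  · exact headY9


end Cfsg.Agent.Lib.SporOutFiTwentyThree
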