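import Cfsg.Agent.Lib.SporOutFiTwentyThree.Heads
import Cfsg.Agent.Lib.SporOutFiTwentyThree.Eqs
import Cfsg.Agent.Lib.SporOutFiTwentyThree.Cands
import Cfsg.Agent.Lib.SporOutFiTwentyThree.EntsX
import Cfsg.Agent.Lib.SporOutFiTwentyThree.EntsY
import Cfsg.Agent.Lib.SporOutFiTwentyThree.CoverX
import Cfsg.Agent.Lib.SporOutFiTwentyThree.CoverY

/-! All automorphisms of Fi23 are inner. -/

set_option autoImplicit false
set_option maxRecDepth 100000

namespace Cfsg.Agent.Lib.SporOutFiTwentyThree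

open Cfsg.Agent.Lib.Coset Cfsg.Agent.Lib.SporPres.FiTwentyThree

theorem out_one : Nat.card (Cfsg.Out Cfsg.Spor.Fi23) = 1 :=
  Checks.out_one (C := cert) ⟨⟨headX, entsX, coverX⟩, ⟨headY, entsY, coverY⟩, eqs_ok, cands⟩

end Cfsg.Agent.Lib.SporOutFiTwentyThree
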